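import Cfsg.Agent.Spor.ThU.V.Main
import Cfsg.Agent.Spor.PX13
import Cfsg.Agent.Spor.ThD.Grp
import Cfsg.Agent.Spor.ThR.C0

set_option autoImplicit false
set_option maxRecDepth 100000000
set_option Elab.async false

namespace Cfsg.Agent.Spor.ThR

theorem hp : ((ThE.A.p : ℕ) : ZMod 2) = 0 := by decide
instance instCharP : CharP (ZMod 2) ThE.A.p := ZMod.charP 2

noncomputable abbrev Ω : MRep ThE.A (ZMod 2) (GL (Fin ThE.A.d) (ZMod 2)) := MRep.gl ThE.A (ZMod 2) ThE.sq hp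
theorem presF : Pres 7 0 ThD.RL (Ω.gen ThE.TT) :=
  ⟨fun _ h => absurd h (Nat.not_lt_zero _), (MRep.gl_gens ThE.gensOk).all_one (show AllP (fun w => PA.isW ThE.A ThE.TT w ThE.A.one = true) [[0, 0], [2, 2], [4, 4], [6, 6], [8, 8], [0, 2, 0, 2, 0, 2], [0, 8, 0, 8], [2, 4, 2, 4, 2, 4], [2, 6, 2, 6], [2, 8, 2, 8], [0, 7, 5, 7, 5, 7, 5, 7, 5], [4, 8, 4, 8], [6, 8, 6, 8, 6, 8], [2, 4, 6, 8, 2, 4, 6, 8, 2, 4, 6, 8, 2, 4, 6, 8, 2, 4, 6, 8, 2, 4, 6, 8, 2, 4, 6, 8, 2, 4, 6, 8], [10, 10, 10, 10, 10, 10, 10], [11, 1, 10, 0], [11, 3, 10, 2], [11, 5, 10, 4], [10, 6, 10, 6], [9, 11, 8, 11, 11, 9, 10, 10, 10], [12, 12, 12], [13, 1, 12, 0], [13, 3, 12, 2], [13, 5, 12, 4], [13, 7, 12, 6], [13, 9, 12, 8], [13, 10, 12, 11, 11]] from AllP.cons r1 (AllP.cons r2 (AllP.cons r3 (AllP.cons r4 (AllP.cons r5 (AllP.cons r6 (AllP.cons r7 (AllP.cons r8 (AllP.cons r9 (AllP.cons r10 (AllP.cons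 r11 (AllP.cons r12 (AllP.cons r13 (AllP.cons r14 (AllP.cons r15 (AllP.cons r16 (AllP.cons r17 (AllP.cons r18 (AllP.cons r19 (AllP.cons r20 (AllP.cons r21 (AllP.cons r22 (AllP.cons r23 (AllP.cons r24 (AllP.cons r25 (AllP.cons r26 (AllP.cons r27 (AllP.nil))))))))))))))))))))))))))))⟩

theorem hom : ∃ ρ : ThD.P →* GL (Fin ThE.A.d) (ZMod 2), ∀ j < 7, ρ (ThD.p j) = Ω.gen ThE.TT j :=
  ThD.bound.exists_hom (by norm_num) ThD.cert.pres presF ThD.lbP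

theorem inj : Function.Injective hom.choose :=
  inj_of_coatom ThD.coatomP ThD.coreP _ (g := ev (atm 7 ThD.p) [2]) (by
    rw [ev_atm_map' hom.choose_spec, wsub_map hom.choose_spec]
    exact (MRep.gl_gens ThE.gensOk).not_mem_comm c1 c2)

/-- the representation of degree 26 -/
noncomputable def X : MRep ThE.A (ZMod 2) ThD.P := Ω.comp hom.choose inj
theorem gens : X.Gens ThE.TT (atm 7 ThD.p) := (MRep.gl_gens ThE.gensOk).comp inj hom.choose_spec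

end Cfsg.Agent.Spor.ThR
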